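import Mathlib

set_option autoImplicit false
universe u
open TensorProduct

namespace Groth.Agent.Lib.Helper5.Weil

section Alg
variable {R : Type u} [CommRing R] {C : Type u} [CommRing C] [Algebra R C]
  {ι : Type u} [Fintype ι] (b : Module.Basis ι R C)

/-- expansion of an element of `A ⊗ C` in the induced basis. -/
theorem expand {A : Type u} [CommRing A] [Algebra R A] (x : A ⊗[R] C) :
    x = ∑ k, ((Algebra.TensorProduct.basis A b).repr x k) ⊗ₜ[R] b k := by
  conv_lhs => rw [← (Algebra.TensorProduct.basis A b).sum_repr x]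
  refine Finset.sum_congr rfl fun k _ => ?_
  rw [Algebra.TensorProduct.basis_repr_symm_apply']

/-- coordinates of an explicit sum -/
theorem repr_sum {A : Type u} [CommRing A] [Algebra R A] (a : ι → A) (k : ι) :
    (Algebra.TensorProduct.basis A b).repr (∑ j, a j ⊗ₜ[R] b j) k = a k := by
  have : (∑ j, a j ⊗ₜ[R] b j) = ∑ j, a j • (Algebra.TensorProduct.basis A b) j := by
    refine Finset.sum_congr rfl fun j _ => ?_
    rw [Algebra.TensorProduct.basis_repr_symm_apply']
  rw [this, Module.Basis.repr_sum_self]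

/-- naturality of coordinates -/
theorem repr_map {P A : Type u} [CommRing P] [Algebra R P] [CommRing A] [Algebra R A]
    (φ : P →ₐ[R] A) (x : P ⊗[R] C) (k : ι) :
    (Algebra.TensorProduct.basis A b).repr (Algebra.TensorProduct.map φ (AlgHom.id R C) x) k
      = φ ((Algebra.TensorProduct.basis P b).repr x k) := by
  conv_lhs => rw [expand b x]
  rw [map_sum]
  simp only [Algebra.TensorProduct.map_tmul, AlgHom.coe_id, id_eq]
  rw [repr_sum]

variable (B : Type u) [CommRing B] [Algebra R B]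

/-- the canonical surjection `R[B] → B`. -/
noncomputable def piB : MvPolynomial B R →ₐ[R] B := MvPolynomial.aeval id

theorem piB_X (β : B) : piB (R := R) B (MvPolynomial.X β) = β := by simp [piB]

theorem piB_surj : Function.Surjective (piB (R := R) B) := fun β => ⟨MvPolynomial.X β, piB_X B β⟩

/-- the generic map `R[B] → R[y_{β,k}] ⊗ C`. -/
noncomputable def Utilde : MvPolynomial B R →ₐ[R] (MvPolynomial (B × ι) R) ⊗[R] C :=
  MvPolynomial.aeval (fun β => ∑ k, (MvPolynomial.X (β, k) : MvPolynomial (B × ι) R) ⊗ₜ[R] b k)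

theorem Utilde_X (β : B) :
    Utilde b B (MvPolynomial.X β) = ∑ k, (MvPolynomial.X (β, k) : MvPolynomial (B × ι) R) ⊗ₜ[R] b k := by
  simp [Utilde]

/-- the ideal of relations. -/
noncomputable def Jideal : Ideal (MvPolynomial (B × ι) R) :=
  Ideal.span { c | ∃ p ∈ RingHom.ker (piB (R := R) B).toRingHom, ∃ k : ι,
    c = (Algebra.TensorProduct.basis (MvPolynomial (B × ι) R) b).repr (Utilde b B p) k }

/-- the Weil restriction algebra. -/
abbrev WB : Type u := MvPolynomial (B × ι) R ⧸ Jideal b B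

/-- the quotient map. -/
noncomputable abbrev qW : MvPolynomial (B × ι) R →ₐ[R] WB b B := Ideal.Quotient.mkₐ R (Jideal b B)

theorem ker_le : RingHom.ker (piB (R := R) B).toRingHom ≤
    RingHom.ker ((Algebra.TensorProduct.map (qW b B) (AlgHom.id R C)).comp (Utilde b B)).toRingHom := by
  intro p hp
  rw [RingHom.mem_ker]
  change (Algebra.TensorProduct.map (qW b B) (AlgHom.id R C)) (Utilde b B p) = 0
  rw [expand b (Utilde b B p), map_sum]
  refine Finset.sum_eq_zero fun k _ => ?_
  rw [Algebra.TensorProduct.map_tmul]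
  have : qW b B ((Algebra.TensorProduct.basis (MvPolynomial (B × ι) R) b).repr (Utilde b B p) k) = 0 := by
    change Ideal.Quotient.mk _ _ = 0
    rw [Ideal.Quotient.eq_zero_iff_mem]
    exact Ideal.subset_span ⟨p, hp, k, rfl⟩
  rw [this, TensorProduct.zero_tmul]

/-- the universal map `B → W ⊗ C`. -/
noncomputable def uHom : B →ₐ[R] (WB b B) ⊗[R] C :=
  (Ideal.Quotient.liftₐ _
    ((Algebra.TensorProduct.map (qW b B) (AlgHom.id R C)).comp (Utilde b B)) (ker_le b B)).comp
    (Ideal.quotientKerAlgEquivOfSurjective (piB_surj (R := R) B)).symm.toAlgHom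

theorem uHom_piB (p : MvPolynomial B R) :
    uHom b B (piB B p) = Algebra.TensorProduct.map (qW b B) (AlgHom.id R C) (Utilde b B p) := by
  have h1 : (Ideal.quotientKerAlgEquivOfSurjective (piB_surj (R := R) B)).symm (piB B p)
      = Ideal.Quotient.mk _ p := by
    rw [AlgEquiv.symm_apply_eq]
    rfl
  change (Ideal.Quotient.liftₐ (RingHom.ker (piB (R := R) B).toRingHom)
    ((Algebra.TensorProduct.map (qW b B) (AlgHom.id R C)).comp (Utilde b B)) (ker_le b B))
    ((Ideal.quotientKerAlgEquivOfSurjective (piB_surj (R := R) B)).symm (piB B p)) = _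
  rw [h1]
  rfl

theorem uHom_apply (β : B) :
    uHom b B β = ∑ k, (qW b B (MvPolynomial.X (β, k))) ⊗ₜ[R] b k := by
  rw [← piB_X (R := R) B β, uHom_piB, Utilde_X, map_sum]
  simp only [Algebra.TensorProduct.map_tmul, AlgHom.coe_id, id_eq, piB_X]

section UP
variable {B} {A : Type u} [CommRing A] [Algebra R A]

/-- the lift on polynomial level. -/
noncomputable def phiT (ψ : B →ₐ[R] A ⊗[R] C) : MvPolynomial (B × ι) R →ₐ[R] A :=
  MvPolynomial.aeval (fun βk : B × ι => (Algebra.TensorProduct.basis A b).repr (ψ βk.1) βk.2)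

theorem phiT_comp (ψ : B →ₐ[R] A ⊗[R] C) :
    (Algebra.TensorProduct.map (phiT b ψ) (AlgHom.id R C)).comp (Utilde b B) = ψ.comp (piB B) := by
  apply MvPolynomial.algHom_ext
  intro β
  simp only [AlgHom.comp_apply, Utilde_X, piB_X, map_sum, Algebra.TensorProduct.map_tmul,
    AlgHom.coe_id, id_eq]
  simp only [phiT, MvPolynomial.aeval_X]
  exact (expand b (ψ β)).symm

theorem phiT_kills (ψ : B →ₐ[R] A ⊗[R] C) : ∀ c ∈ Jideal b B, phiT b ψ c = 0 := by
  intro c hc
  have : Jideal b B ≤ RingHom.ker (phiT b ψ).toRingHom := by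
    rw [Jideal, Ideal.span_le]
    rintro _ ⟨p, hp, k, rfl⟩
    rw [SetLike.mem_coe, RingHom.mem_ker]
    change phiT b ψ _ = 0
    rw [← repr_map b (phiT b ψ) (Utilde b B p) k]
    have h1 : Algebra.TensorProduct.map (phiT b ψ) (AlgHom.id R C) (Utilde b B p) = ψ (piB B p) :=
      congrArg (fun f => f p) (phiT_comp b ψ)
    rw [h1]
    have h2 : piB (R := R) B p = 0 := hp
    rw [h2, map_zero, map_zero]
    rfl
  exact this hc

/-- the lift. -/
noncomputable def phiW (ψ : B →ₐ[R] A ⊗[R] C) : WB b B →ₐ[R] A :=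
  Ideal.Quotient.liftₐ (Jideal b B) (phiT b ψ) (phiT_kills b ψ)

theorem phiW_q (ψ : B →ₐ[R] A ⊗[R] C) : (phiW b ψ).comp (qW b B) = phiT b ψ := by
  ext x
  simp [phiW, qW]

theorem phiW_spec (ψ : B →ₐ[R] A ⊗[R] C) :
    (Algebra.TensorProduct.map (phiW b ψ) (AlgHom.id R C)).comp (uHom b B) = ψ := by
  ext β
  obtain ⟨p, rfl⟩ := piB_surj (R := R) B β
  rw [AlgHom.comp_apply, uHom_piB]
  have h1 : Algebra.TensorProduct.map (phiT b ψ) (AlgHom.id R C) (Utilde b B p) = ψ (piB B p) :=
    congrArg (fun f => f p) (phiT_comp b ψ)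
  rw [← h1, ← phiW_q b ψ]
  rw [← AlgHom.comp_apply, ← Algebra.TensorProduct.map_comp]
  rfl

theorem phiW_unique (φ φ' : WB b B →ₐ[R] A)
    (h : (Algebra.TensorProduct.map φ (AlgHom.id R C)).comp (uHom b B)
      = (Algebra.TensorProduct.map φ' (AlgHom.id R C)).comp (uHom b B)) : φ = φ' := by
  have key : ∀ (χ : WB b B →ₐ[R] A) (β : B) (k : ι),
      χ (qW b B (MvPolynomial.X (β, k))) =
        (Algebra.TensorProduct.basis A b).repr
          ((Algebra.TensorProduct.map χ (AlgHom.id R C)).comp (uHom b B) β) k := by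
    intro χ β k
    rw [AlgHom.comp_apply, uHom_apply, map_sum]
    simp only [Algebra.TensorProduct.map_tmul, AlgHom.coe_id, id_eq]
    rw [repr_sum]
  have h2 : φ.comp (qW b B) = φ'.comp (qW b B) := by
    apply MvPolynomial.algHom_ext
    rintro ⟨β, k⟩
    rw [AlgHom.comp_apply, AlgHom.comp_apply, key φ β k, key φ' β k, h]
  ext x
  obtain ⟨y, rfl⟩ := Ideal.Quotient.mk_surjective x
  exact congrArg (fun f => f y) h2

end UP

end Alg

end Groth.Agent.Lib.Helper5.Weil
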