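import Groth.Agent.Lib.Helper5.Weil.Alg

set_option autoImplicit false
universe u
open TensorProduct CategoryTheory CategoryTheory.Limits

namespace Groth.Agent.Lib.Helper5.Weil

section Cat

variable {R : Type u} [CommRing R] {C : Type u} [CommRing C] [Algebra R C]

/-- maps out of a tensor product in `CommRingCat` agree if they agree on both factors. -/
theorem tensor_hom_ext {A : Type u} [CommRing A] [Algebra R A] {Q : CommRingCat.{u}}
    (m m' : CommRingCat.of (A ⊗[R] C) ⟶ Q)
    (h1 : CommRingCat.ofHom (Algebra.TensorProduct.includeLeftRingHom (R := R) (A := A) (B := C)) ≫ m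
      = CommRingCat.ofHom Algebra.TensorProduct.includeLeftRingHom ≫ m')
    (h2 : CommRingCat.ofHom (Algebra.TensorProduct.includeRight (R := R) (A := A) (B := C)).toRingHom ≫ m
      = CommRingCat.ofHom (Algebra.TensorProduct.includeRight (R := R) (A := A) (B := C)).toRingHom ≫ m') :
    m = m' :=
  (CommRingCat.isPushout_tensorProduct R A C).hom_ext h1 h2

/-- `φ ⊗ id` as a morphism of `CommRingCat`. -/
noncomputable def mapHom {W A : Type u} [CommRing W] [Algebra R W] [CommRing A] [Algebra R A]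
    (φ : W →ₐ[R] A) : CommRingCat.of (W ⊗[R] C) ⟶ CommRingCat.of (A ⊗[R] C) :=
  CommRingCat.ofHom (Algebra.TensorProduct.map φ (AlgHom.id R C)).toRingHom

theorem mapHom_apply {W A : Type u} [CommRing W] [Algebra R W] [CommRing A] [Algebra R A]
    (φ : W →ₐ[R] A) (x : W ⊗[R] C) :
    (mapHom (C := C) φ).hom x = Algebra.TensorProduct.map φ (AlgHom.id R C) x := rfl

/-- an algebra hom as a morphism of `CommRingCat`. -/
noncomputable def algCat {B Q : Type u} [CommRing B] [Algebra R B] [CommRing Q] [Algebra R Q]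
    (φ : B →ₐ[R] Q) : CommRingCat.of B ⟶ CommRingCat.of Q :=
  CommRingCat.ofHom φ.toRingHom

theorem algCat_apply {B Q : Type u} [CommRing B] [Algebra R B] [CommRing Q] [Algebra R Q]
    (φ : B →ₐ[R] Q) (x : B) : (algCat φ).hom x = φ x := rfl

theorem algCat_comp_mapHom {B W A : Type u} [CommRing B] [Algebra R B] [CommRing W] [Algebra R W]
    [CommRing A] [Algebra R A] (u : B →ₐ[R] W ⊗[R] C) (φ : W →ₐ[R] A) :
    algCat u ≫ mapHom (C := C) φ
      = algCat ((Algebra.TensorProduct.map φ (AlgHom.id R C)).comp u) := rfl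

theorem algCat_injective {B Q : Type u} [CommRing B] [Algebra R B] [CommRing Q] [Algebra R Q]
    (φ φ' : B →ₐ[R] Q) (h : algCat φ = algCat φ') : φ = φ' := by
  ext x
  exact congrArg (fun f => f.hom x) h

end Cat

theorem weil_alg {R C B : CommRingCat.{u}} (φg : R ⟶ C) (φf : R ⟶ B)
    (hfree : letI := φg.hom.toAlgebra; Module.Finite R C ∧ Module.Free R C) :
    ∃ (W : CommRingCat.{u}) (w₀ : R ⟶ W), ∀ (Q : CommRingCat.{u}) (j₁ : W ⟶ Q) (j₂ : C ⟶ Q)
      (_ : IsPushout w₀ φg j₁ j₂),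
      ∃ (uu : B ⟶ Q), φf ≫ uu = φg ≫ j₂ ∧
        ∀ (A : CommRingCat.{u}) (ρ : R ⟶ A) (Q' : CommRingCat.{u}) (i₁ : A ⟶ Q') (i₂ : C ⟶ Q')
          (_ : IsPushout ρ φg i₁ i₂) (β : B ⟶ Q') (_ : φf ≫ β = φg ≫ i₂),
          ∃! α : W ⟶ A, w₀ ≫ α = ρ ∧
            ∀ m : Q ⟶ Q', j₁ ≫ m = α ≫ i₁ → j₂ ≫ m = i₂ → uu ≫ m = β := by
  letI := φg.hom.toAlgebra
  letI := φf.hom.toAlgebra
  obtain ⟨hfin, hfr⟩ := hfree
  let ι := Module.Free.ChooseBasisIndex R C
  let b : Module.Basis ι R C := Module.Free.chooseBasis R C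
  have hφg : φg = CommRingCat.ofHom (algebraMap R C) := rfl
  have hφf : φf = CommRingCat.ofHom (algebraMap R B) := rfl
  refine ⟨CommRingCat.of (WB b B), CommRingCat.ofHom (algebraMap R (WB b B)), ?_⟩
  intro Q j₁ j₂ hQ
  have hT := CommRingCat.isPushout_tensorProduct R (WB b B) C
  let eQ := hT.isoIsPushout _ _ hQ
  have eQ1 : CommRingCat.ofHom Algebra.TensorProduct.includeLeftRingHom ≫ eQ.hom = j₁ :=
    IsPushout.inl_isoIsPushout_hom _ _ hT hQ
  have eQ2 : CommRingCat.ofHom (Algebra.TensorProduct.includeRight (R := R) (A := WB b B) (B := C)).toRingHom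
      ≫ eQ.hom = j₂ := IsPushout.inr_isoIsPushout_hom _ _ hT hQ
  refine ⟨algCat (uHom b B) ≫ eQ.hom, ?_, ?_⟩
  · rw [← eQ2, hφf, hφg, ← Category.assoc, ← Category.assoc]
    congr 1
    apply CommRingCat.hom_ext
    apply RingHom.ext
    intro r
    change uHom b B (algebraMap R B r) = Algebra.TensorProduct.includeRight (algebraMap R C r)
    rw [AlgHom.commutes, AlgHom.commutes]
  intro A ρ Q' i₁ i₂ hQ' β hβ
  letI := ρ.hom.toAlgebra
  have hρ : ρ = CommRingCat.ofHom (algebraMap R A) := rfl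
  have hT' := CommRingCat.isPushout_tensorProduct R A C
  let e' := hT'.isoIsPushout _ _ hQ'
  have e'1 : CommRingCat.ofHom Algebra.TensorProduct.includeLeftRingHom ≫ e'.hom = i₁ :=
    IsPushout.inl_isoIsPushout_hom _ _ hT' hQ'
  have e'2 : CommRingCat.ofHom (Algebra.TensorProduct.includeRight (R := R) (A := A) (B := C)).toRingHom
      ≫ e'.hom = i₂ := IsPushout.inr_isoIsPushout_hom _ _ hT' hQ'
  have e'3 : i₂ ≫ e'.inv = CommRingCat.ofHom
      (Algebra.TensorProduct.includeRight (R := R) (A := A) (B := C)).toRingHom := by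
    rw [← e'2, Category.assoc, Iso.hom_inv_id, Category.comp_id]
  have e'4 : i₁ ≫ e'.inv = CommRingCat.ofHom Algebra.TensorProduct.includeLeftRingHom := by
    rw [← e'1, Category.assoc, Iso.hom_inv_id, Category.comp_id]
  let ψ : B →ₐ[R] A ⊗[R] C :=
    { toRingHom := (β ≫ e'.inv).hom
      commutes' := by
        intro r
        have h1 : (φf ≫ β ≫ e'.inv) = φg ≫ CommRingCat.ofHom
            (Algebra.TensorProduct.includeRight (R := R) (A := A) (B := C)).toRingHom := by
          rw [← Category.assoc, hβ, Category.assoc, e'3]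
        have h2 := congrArg (fun f => f.hom r) h1
        simp only [hφf, hφg] at h2
        change (β ≫ e'.inv).hom (algebraMap R B r) = _
        refine h2.trans ?_
        simp }
  have hψ : algCat ψ = β ≫ e'.inv := rfl
  -- property of a candidate
  have main : ∀ (φ : WB b B →ₐ[R] A) (m : Q ⟶ Q'),
      j₁ ≫ m = CommRingCat.ofHom φ.toRingHom ≫ i₁ → j₂ ≫ m = i₂ →
      eQ.hom ≫ m ≫ e'.inv = mapHom (C := C) φ := by
    intro φ m hm1 hm2
    apply tensor_hom_ext
    · rw [← Category.assoc, eQ1, ← Category.assoc, hm1, Category.assoc, e'4]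
      apply CommRingCat.hom_ext
      apply RingHom.ext
      intro x
      change (φ x) ⊗ₜ[R] (1 : C) = Algebra.TensorProduct.map φ (AlgHom.id R C) (x ⊗ₜ[R] (1 : C))
      rw [Algebra.TensorProduct.map_tmul]
      rfl
    · rw [← Category.assoc, eQ2, ← Category.assoc, hm2, e'3]
      apply CommRingCat.hom_ext
      apply RingHom.ext
      intro x
      change (1 : A) ⊗ₜ[R] x = Algebra.TensorProduct.map φ (AlgHom.id R C) ((1 : WB b B) ⊗ₜ[R] x)
      rw [Algebra.TensorProduct.map_tmul, map_one]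
      rfl
  have toAlg : ∀ α : CommRingCat.of (WB b B) ⟶ A,
      CommRingCat.ofHom (algebraMap R (WB b B)) ≫ α = ρ →
      ∃ φ : WB b B →ₐ[R] A, α = CommRingCat.ofHom φ.toRingHom := by
    intro α hα
    refine ⟨{ toRingHom := α.hom, commutes' := ?_ }, rfl⟩
    intro r
    exact congrArg (fun f => f.hom r) hα
  refine ⟨CommRingCat.ofHom (phiW b ψ).toRingHom, ⟨?_, ?_⟩, ?_⟩
  · rw [hρ]
    apply CommRingCat.hom_ext
    apply RingHom.ext
    intro r
    change phiW b ψ (algebraMap R (WB b B) r) = algebraMap R A r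
    rw [AlgHom.commutes]
  · intro m hm1 hm2
    have h := main (phiW b ψ) m hm1 hm2
    have h3 : algCat (uHom b B) ≫ mapHom (C := C) (phiW b ψ) = β ≫ e'.inv := by
      rw [← hψ, algCat_comp_mapHom, phiW_spec b ψ]
    have h4 : ((algCat (uHom b B) ≫ eQ.hom) ≫ m) ≫ e'.inv = β ≫ e'.inv := by
      rw [← h3, ← h]
      simp only [Category.assoc]
    have h5 := congrArg (fun f => f ≫ e'.hom) h4
    simpa only [Category.assoc, Iso.inv_hom_id, Category.comp_id] using h5
  · rintro α ⟨hα1, hα2⟩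
    obtain ⟨φ, rfl⟩ := toAlg α hα1
    let m : Q ⟶ Q' := eQ.inv ≫ mapHom (C := C) φ ≫ e'.hom
    have hm1 : j₁ ≫ m = CommRingCat.ofHom φ.toRingHom ≫ i₁ := by
      rw [← eQ1, ← e'1]
      simp only [m, Category.assoc, Iso.hom_inv_id_assoc]
      rw [← Category.assoc, ← Category.assoc]
      congr 1
    have hm2 : j₂ ≫ m = i₂ := by
      rw [← eQ2, ← e'2]
      simp only [m, Category.assoc, Iso.hom_inv_id_assoc]
      rw [← Category.assoc]
      congr 1
      apply CommRingCat.hom_ext
      apply RingHom.ext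
      intro x
      change Algebra.TensorProduct.map φ (AlgHom.id R C) ((1 : WB b B) ⊗ₜ[R] x) = (1 : A) ⊗ₜ[R] x
      rw [Algebra.TensorProduct.map_tmul, map_one]
      rfl
    have h := hα2 m hm1 hm2
    have h6 : algCat (uHom b B) ≫ mapHom (C := C) φ = β ≫ e'.inv := by
      rw [← h]
      simp only [m, Category.assoc, Iso.hom_inv_id_assoc, Iso.hom_inv_id, Category.comp_id]
    have h7 : (Algebra.TensorProduct.map φ (AlgHom.id R C)).comp (uHom b B) = ψ := by
      apply algCat_injective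
      rw [← algCat_comp_mapHom, h6, hψ]
    have h8 := phiW_unique b φ (phiW b ψ) (h7.trans (phiW_spec b ψ).symm)
    rw [h8]

end Groth.Agent.Lib.Helper5.Weil
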