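import Groth.Agent.Lib.Helper5.Weil.AlgCat
import Groth.Prelude.Def_Flatn

set_option autoImplicit false
universe u
open CategoryTheory CategoryTheory.Limits AlgebraicGeometry Opposite

namespace Groth.Agent.Lib.Helper5.Weil

/-- morphism into an affine scheme from a ring map on global sections. -/
noncomputable def homOfΓ {T Y : Scheme.{u}} [IsAffine Y] (φ : Γ(Y, ⊤) ⟶ Γ(T, ⊤)) : T ⟶ Y :=
  T.toSpecΓ ≫ Spec.map φ ≫ Y.isoSpec.inv

theorem isoSpec_inv_appTop_ΓSpecIso (Y : Scheme.{u}) [IsAffine Y] :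
    Y.isoSpec.inv.appTop ≫ (Scheme.ΓSpecIso Γ(Y, ⊤)).hom = 𝟙 _ := by
  rw [← Scheme.toSpecΓ_appTop, ← Scheme.Hom.comp_appTop, Scheme.toSpecΓ_isoSpec_inv]
  rfl

theorem homOfΓ_appTop {T Y : Scheme.{u}} [IsAffine Y] (φ : Γ(Y, ⊤) ⟶ Γ(T, ⊤)) :
    (homOfΓ φ).appTop = φ := by
  rw [homOfΓ, Scheme.Hom.comp_appTop, Scheme.Hom.comp_appTop, Scheme.toSpecΓ_appTop,
    Category.assoc, Scheme.ΓSpecIso_naturality, ← Category.assoc, isoSpec_inv_appTop_ΓSpecIso,
    Category.id_comp]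

section Setup
variable {Z X S : Scheme.{u}} [IsAffine Z] [IsAffine X] [IsAffine S] (g : Z ⟶ S) (f : X ⟶ S)
variable {W₀ : CommRingCat.{u}} (w₀ : Γ(S, ⊤) ⟶ W₀)

/-- structure map of the representing object. -/
noncomputable def Whom : Spec W₀ ⟶ S := Spec.map w₀ ≫ S.isoSpec.inv

theorem Whom_appTop : (Whom w₀).appTop ≫ (Scheme.ΓSpecIso W₀).hom = w₀ := by
  rw [Whom, Scheme.Hom.comp_appTop, Category.assoc, Scheme.ΓSpecIso_naturality, ← Category.assoc,
    isoSpec_inv_appTop_ΓSpecIso, Category.id_comp]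

theorem Whom_appTop' : (Whom w₀).appTop = w₀ ≫ (Scheme.ΓSpecIso W₀).inv :=
  (Iso.eq_comp_inv _).mpr (Whom_appTop w₀)

theorem isPushout_W :
    IsPushout w₀ g.appTop ((Scheme.ΓSpecIso W₀).inv ≫ (pullback.fst (Whom w₀) g).appTop)
      (pullback.snd (Whom w₀) g).appTop := by
  have h := isPushout_appTop_of_isPullback (IsPullback.of_hasPullback (Whom w₀) g)
  refine h.of_iso (Iso.refl _) (Scheme.ΓSpecIso W₀) (Iso.refl _) (Iso.refl _) ?_ ?_ ?_ ?_
  · simp [Whom_appTop]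
  · simp
  · simp
  · simp

end Setup

section Main
variable {Z X S : Scheme.{u}} [IsAffine Z] [IsAffine X] [IsAffine S] (g : Z ⟶ S) (f : X ⟶ S)
variable {W₀ : CommRingCat.{u}} (w₀ : Γ(S, ⊤) ⟶ W₀)
  (uu : Γ(X, ⊤) ⟶ Γ(pullback (Whom w₀) g, ⊤))
  (huu : f.appTop ≫ uu = g.appTop ≫ (pullback.snd (Whom w₀) g).appTop)

/-- the representing object. -/
noncomputable abbrev Wobj : Over S := Over.mk (Whom w₀)

/-- sections of `morS` as morphisms. -/
abbrev MorS (T : Over S) : Type u := (Over.map g).obj ((Over.pullback g).obj T) ⟶ Over.mk f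

/-- make a section from a morphism of schemes. -/
noncomputable def mkMorS (T : Over S) (c : pullback T.hom g ⟶ X)
    (hc : c ≫ f = pullback.snd T.hom g ≫ g) : MorS g f T :=
  Over.homMk (U := (Over.map g).obj ((Over.pullback g).obj T)) (V := Over.mk f) c hc

theorem mkMorS_left (T : Over S) (c : pullback T.hom g ⟶ X)
    (hc : c ≫ f = pullback.snd T.hom g ≫ g) : (mkMorS g f T c hc).left = c := rfl

theorem MorS_w {T : Over S} (b : MorS g f T) :
    (b.left : pullback T.hom g ⟶ X) ≫ f = pullback.snd T.hom g ≫ g := Over.w b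

theorem MorS_ext {T : Over S} (b b' : MorS g f T)
    (h : (b.left : pullback T.hom g ⟶ X) = b'.left) : b = b' := Over.OverMorphism.ext h

/-- base change of a morphism over `S`. -/
noncomputable def Pmap {T T' : Over S} (t : T' ⟶ T) : pullback T'.hom g ⟶ pullback T.hom g :=
  ((Over.map g).map ((Over.pullback g).map t)).left

theorem Pmap_fst {T T' : Over S} (t : T' ⟶ T) :
    Pmap g t ≫ pullback.fst T.hom g = pullback.fst T'.hom g ≫ t.left := by
  simp only [Pmap, Over.map_map_left, Over.pullback_map_left]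
  exact pullback.lift_fst _ _ _

theorem Pmap_snd {T T' : Over S} (t : T' ⟶ T) :
    Pmap g t ≫ pullback.snd T.hom g = pullback.snd T'.hom g := by
  simp only [Pmap, Over.map_map_left, Over.pullback_map_left]
  exact pullback.lift_snd _ _ _

/-- the action of `morS`. -/
noncomputable def act {T T' : Over S} (t : T' ⟶ T) (b : MorS g f T) : MorS g f T' :=
  (Flatn.morS g f).map t.op b

theorem act_left {T T' : Over S} (t : T' ⟶ T) (b : MorS g f T) :
    ((act g f t b).left : pullback T'.hom g ⟶ X) = Pmap g t ≫ b.left := rfl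

theorem act_comp {T T' T'' : Over S} (t' : T'' ⟶ T') (t : T' ⟶ T) (b : MorS g f T) :
    act g f (t' ≫ t) b = act g f t' (act g f t b) := by
  change (Flatn.morS g f).map (t' ≫ t).op b = (Flatn.morS g f).map t'.op ((Flatn.morS g f).map t.op b)
  rw [op_comp, Functor.map_comp]
  rfl

/-- the universal element. -/
noncomputable def xi : MorS g f (Wobj w₀) :=
  mkMorS g f (Wobj w₀) (homOfΓ uu) (by
    apply ext_of_isAffine
    rw [Scheme.Hom.comp_appTop, Scheme.Hom.comp_appTop, homOfΓ_appTop, huu]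
    rfl)

theorem xi_left_appTop : ((xi g f w₀ uu huu).left : pullback (Whom w₀) g ⟶ X).appTop = uu :=
  homOfΓ_appTop uu

/-- the comparison map. -/
noncomputable def tau (T : Over S) (t : T ⟶ Wobj w₀) : MorS g f T := act g f t (xi g f w₀ uu huu)

theorem tau_left_appTop (T : Over S) (t : T ⟶ Wobj w₀) :
    ((tau g f w₀ uu huu T t).left : pullback T.hom g ⟶ X).appTop = uu ≫ (Pmap g t).appTop := by
  rw [tau, act_left, Scheme.Hom.comp_appTop, xi_left_appTop]

theorem tau_comp {T T' : Over S} (s : T' ⟶ T) (t : T ⟶ Wobj w₀) :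
    tau g f w₀ uu huu T' (s ≫ t) = act g f s (tau g f w₀ uu huu T t) := by
  rw [tau, tau, act_comp]

/-- the ring map attached to a morphism to `W`. -/
noncomputable def alphaOf {T : Over S} (t : T ⟶ Wobj w₀) : W₀ ⟶ Γ(T.left, ⊤) :=
  (Scheme.ΓSpecIso W₀).inv ≫ (t.left : T.left ⟶ Spec W₀).appTop

theorem alphaOf_injective {T : Over S} (t t' : T ⟶ Wobj w₀) (h : alphaOf w₀ t = alphaOf w₀ t') :
    t = t' := by
  have h1 : (t.left : T.left ⟶ Spec W₀).appTop = (t'.left : T.left ⟶ Spec W₀).appTop :=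
    (Iso.cancel_iso_inv_left _ _ _).mp h
  have h2 : (t.left : T.left ⟶ Spec W₀) = t'.left := ext_of_isAffine (Y := Spec W₀) h1
  exact Over.OverMorphism.ext h2

theorem alphaOf_w {T : Over S} (t : T ⟶ Wobj w₀) : w₀ ≫ alphaOf w₀ t = T.hom.appTop := by
  have h1 : (t.left : T.left ⟶ Spec W₀) ≫ Whom w₀ = T.hom := Over.w t
  rw [alphaOf, ← Category.assoc, ← Whom_appTop', ← Scheme.Hom.comp_appTop, h1]

theorem alphaOf_m1 {T : Over S} (t : T ⟶ Wobj w₀) :
    ((Scheme.ΓSpecIso W₀).inv ≫ (pullback.fst (Whom w₀) g).appTop) ≫ (Pmap g t).appTop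
      = alphaOf w₀ t ≫ (pullback.fst T.hom g).appTop := by
  have h1 : Pmap g t ≫ pullback.fst (Whom w₀) g = pullback.fst T.hom g ≫ t.left := Pmap_fst g t
  rw [Category.assoc, ← Scheme.Hom.comp_appTop, h1, Scheme.Hom.comp_appTop, alphaOf, Category.assoc]

theorem alphaOf_m2 {T : Over S} (t : T ⟶ Wobj w₀) :
    (pullback.snd (Whom w₀) g).appTop ≫ (Pmap g t).appTop = (pullback.snd T.hom g).appTop := by
  have h1 : Pmap g t ≫ pullback.snd (Whom w₀) g = pullback.snd T.hom g := Pmap_snd g t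
  rw [← Scheme.Hom.comp_appTop, h1]

theorem m_unique {T : Over S} (t : T ⟶ Wobj w₀) (m : Γ(pullback (Whom w₀) g, ⊤) ⟶ Γ(pullback T.hom g, ⊤))
    (hm1 : ((Scheme.ΓSpecIso W₀).inv ≫ (pullback.fst (Whom w₀) g).appTop) ≫ m
      = alphaOf w₀ t ≫ (pullback.fst T.hom g).appTop)
    (hm2 : (pullback.snd (Whom w₀) g).appTop ≫ m = (pullback.snd T.hom g).appTop) :
    m = (Pmap g t).appTop :=
  (isPushout_W g w₀).hom_ext (hm1.trans (alphaOf_m1 g w₀ t).symm) (hm2.trans (alphaOf_m2 g w₀ t).symm)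

section UP
variable (hUP : ∀ (A : CommRingCat.{u}) (ρ : Γ(S, ⊤) ⟶ A) (Q' : CommRingCat.{u}) (i₁ : A ⟶ Q')
    (i₂ : Γ(Z, ⊤) ⟶ Q') (_ : IsPushout ρ g.appTop i₁ i₂) (β : Γ(X, ⊤) ⟶ Q')
    (_ : f.appTop ≫ β = g.appTop ≫ i₂),
    ∃! α : W₀ ⟶ A, w₀ ≫ α = ρ ∧ ∀ m : Γ(pullback (Whom w₀) g, ⊤) ⟶ Q',
      ((Scheme.ΓSpecIso W₀).inv ≫ (pullback.fst (Whom w₀) g).appTop) ≫ m = α ≫ i₁ →
      (pullback.snd (Whom w₀) g).appTop ≫ m = i₂ → uu ≫ m = β)
include hUP

theorem tau_inj_affine (T : Over S) [IsAffine T.left] :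
    Function.Injective (tau g f w₀ uu huu T) := by
  intro t t' h
  have hpo := isPushout_appTop_of_isPullback (IsPullback.of_hasPullback T.hom g)
  have hβ : f.appTop ≫ (uu ≫ (Pmap g t).appTop) = g.appTop ≫ (pullback.snd T.hom g).appTop := by
    have h1 := congrArg Scheme.Hom.appTop (MorS_w g f (tau g f w₀ uu huu T t))
    rw [Scheme.Hom.comp_appTop, Scheme.Hom.comp_appTop, tau_left_appTop] at h1
    exact h1
  obtain ⟨α, -, huniq⟩ := hUP _ T.hom.appTop _ _ _ hpo _ hβ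
  have h1 : alphaOf w₀ t = α := huniq _ ⟨alphaOf_w w₀ t, fun m hm1 hm2 => by
    rw [m_unique g w₀ t m hm1 hm2]⟩
  have h2 : alphaOf w₀ t' = α := huniq _ ⟨alphaOf_w w₀ t', fun m hm1 hm2 => by
    rw [m_unique g w₀ t' m hm1 hm2, ← tau_left_appTop g f w₀ uu huu T t',
      ← tau_left_appTop g f w₀ uu huu T t, h]⟩
  exact alphaOf_injective w₀ t t' (h1.trans h2.symm)

theorem tau_surj_affine (T : Over S) [IsAffine T.left] :
    Function.Surjective (tau g f w₀ uu huu T) := by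
  intro b
  have hpo := isPushout_appTop_of_isPullback (IsPullback.of_hasPullback T.hom g)
  have hβ : f.appTop ≫ (b.left : pullback T.hom g ⟶ X).appTop
      = g.appTop ≫ (pullback.snd T.hom g).appTop := by
    have h1 := congrArg Scheme.Hom.appTop (MorS_w g f b)
    rw [Scheme.Hom.comp_appTop, Scheme.Hom.comp_appTop] at h1
    exact h1
  obtain ⟨α, ⟨hα1, hα2⟩, -⟩ := hUP _ T.hom.appTop _ _ _ hpo _ hβ
  let tl : T.left ⟶ Spec W₀ := homOfΓ ((Scheme.ΓSpecIso W₀).hom ≫ α)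
  have htl : tl ≫ Whom w₀ = T.hom := by
    apply ext_of_isAffine
    rw [Scheme.Hom.comp_appTop, homOfΓ_appTop, ← Category.assoc, Whom_appTop, hα1]
  let t : T ⟶ Wobj w₀ := Over.homMk tl htl
  have hαt : alphaOf w₀ t = α := by
    change (Scheme.ΓSpecIso W₀).inv ≫ tl.appTop = α
    rw [homOfΓ_appTop, Iso.inv_hom_id_assoc]
  refine ⟨t, ?_⟩
  apply MorS_ext
  have h3 : ((tau g f w₀ uu huu T t).left : pullback T.hom g ⟶ X).appTop
      = (b.left : pullback T.hom g ⟶ X).appTop := by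
    rw [tau_left_appTop]
    exact hα2 _ ((alphaOf_m1 g w₀ t).trans (by rw [hαt])) (alphaOf_m2 g w₀ t)
  exact ext_of_isAffine (Y := X) h3

end UP

/-- the `i`-th affine chart of `T` as an object over `S`. -/
noncomputable abbrev chartObj (T : Over S) (i : T.left.affineCover.I₀) : Over S :=
  Over.mk (T.left.affineCover.f i ≫ T.hom)

/-- the inclusion of the `i`-th chart. -/
noncomputable abbrev chartHom (T : Over S) (i : T.left.affineCover.I₀) : chartObj T i ⟶ T :=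
  Over.homMk (T.left.affineCover.f i) rfl

instance chartObj_isAffine (T : Over S) (i : T.left.affineCover.I₀) :
    IsAffine (chartObj T i).left := by
  change IsAffine (T.left.affineCover.X i)
  infer_instance

theorem MorS_sep (T : Over S) (b b' : MorS g f T)
    (h : ∀ i, act g f (chartHom T i) b = act g f (chartHom T i) b') : b = b' := by
  apply MorS_ext
  let 𝒰 := T.left.affineCover
  apply (𝒰.pullback₁ (pullback.fst T.hom g)).hom_ext
  intro i
  have hc : pullback.snd (pullback.fst T.hom g) (𝒰.f i) ≫ (chartObj T i).hom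
      = (pullback.fst (pullback.fst T.hom g) (𝒰.f i) ≫ pullback.snd T.hom g) ≫ g := by
    change pullback.snd (pullback.fst T.hom g) (𝒰.f i) ≫ 𝒰.f i ≫ T.hom = _
    rw [← Category.assoc, ← pullback.condition, Category.assoc, Category.assoc, pullback.condition]
  let k : pullback (pullback.fst T.hom g) (𝒰.f i) ⟶ pullback (chartObj T i).hom g :=
    pullback.lift (pullback.snd _ _) (pullback.fst _ _ ≫ pullback.snd T.hom g) hc
  have hk : k ≫ Pmap g (chartHom T i) = pullback.fst (pullback.fst T.hom g) (𝒰.f i) := by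
    apply pullback.hom_ext
    · rw [Category.assoc, Pmap_fst]
      change k ≫ pullback.fst (chartObj T i).hom g ≫ 𝒰.f i = _
      rw [← Category.assoc, pullback.lift_fst, pullback.condition]
    · rw [Category.assoc, Pmap_snd, pullback.lift_snd]
  change pullback.fst (pullback.fst T.hom g) (𝒰.f i) ≫ b.left
    = pullback.fst (pullback.fst T.hom g) (𝒰.f i) ≫ b'.left
  rw [← hk, Category.assoc, Category.assoc, ← act_left, ← act_left, h i]

section UP2
variable (hUP : ∀ (A : CommRingCat.{u}) (ρ : Γ(S, ⊤) ⟶ A) (Q' : CommRingCat.{u}) (i₁ : A ⟶ Q')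
    (i₂ : Γ(Z, ⊤) ⟶ Q') (_ : IsPushout ρ g.appTop i₁ i₂) (β : Γ(X, ⊤) ⟶ Q')
    (_ : f.appTop ≫ β = g.appTop ≫ i₂),
    ∃! α : W₀ ⟶ A, w₀ ≫ α = ρ ∧ ∀ m : Γ(pullback (Whom w₀) g, ⊤) ⟶ Q',
      ((Scheme.ΓSpecIso W₀).inv ≫ (pullback.fst (Whom w₀) g).appTop) ≫ m = α ≫ i₁ →
      (pullback.snd (Whom w₀) g).appTop ≫ m = i₂ → uu ≫ m = β)
include hUP

theorem tau_inj (T : Over S) : Function.Injective (tau g f w₀ uu huu T) := by
  intro t t' h
  have h1 : ∀ i, chartHom T i ≫ t = chartHom T i ≫ t' := by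
    intro i
    apply tau_inj_affine g f w₀ uu huu hUP (chartObj T i)
    rw [tau_comp, tau_comp, h]
  apply Over.OverMorphism.ext
  apply T.left.affineCover.hom_ext
  intro i
  exact congrArg (fun s => s.left) (h1 i)

theorem tau_surj (T : Over S) : Function.Surjective (tau g f w₀ uu huu T) := by
  intro b
  let 𝒰 := T.left.affineCover
  choose ti hti using fun i => tau_surj_affine g f w₀ uu huu hUP (chartObj T i) (act g f (chartHom T i) b)
  -- overlaps
  have hov : ∀ i j, pullback.fst (𝒰.f i) (𝒰.f j) ≫ ((ti i).left : 𝒰.X i ⟶ Spec W₀)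
      = pullback.snd (𝒰.f i) (𝒰.f j) ≫ ((ti j).left : 𝒰.X j ⟶ Spec W₀) := by
    intro i j
    let V : Over S := Over.mk (pullback.fst (𝒰.f i) (𝒰.f j) ≫ 𝒰.f i ≫ T.hom)
    let p₁ : V ⟶ chartObj T i := Over.homMk (pullback.fst (𝒰.f i) (𝒰.f j)) rfl
    let p₂ : V ⟶ chartObj T j := Over.homMk (pullback.snd (𝒰.f i) (𝒰.f j)) (by
      change pullback.snd (𝒰.f i) (𝒰.f j) ≫ 𝒰.f j ≫ T.hom = pullback.fst (𝒰.f i) (𝒰.f j) ≫ 𝒰.f i ≫ T.hom
      rw [← Category.assoc, ← pullback.condition, Category.assoc])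
    have hp : p₁ ≫ chartHom T i = p₂ ≫ chartHom T j := by
      apply Over.OverMorphism.ext
      exact pullback.condition
    have h2 : p₁ ≫ ti i = p₂ ≫ ti j := by
      apply tau_inj g f w₀ uu huu hUP V
      rw [tau_comp, tau_comp, hti i, hti j, ← act_comp, ← act_comp, hp]
    exact congrArg (fun s => s.left) h2
  let tl : T.left ⟶ Spec W₀ := 𝒰.glueMorphisms (fun i => ((ti i).left : 𝒰.X i ⟶ Spec W₀)) hov
  have htl : tl ≫ Whom w₀ = T.hom := by
    apply 𝒰.hom_ext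
    intro i
    rw [← Category.assoc, Scheme.Cover.ι_glueMorphisms]
    exact Over.w (ti i)
  let t : T ⟶ Wobj w₀ := Over.homMk tl htl
  have ht : ∀ i, chartHom T i ≫ t = ti i := by
    intro i
    apply Over.OverMorphism.ext
    exact 𝒰.ι_glueMorphisms _ hov i
  refine ⟨t, ?_⟩
  apply MorS_sep g f T
  intro i
  rw [← tau_comp, ht, hti]

end UP2

end Main

theorem representable {Z X S : Scheme.{u}} [IsAffine Z] [IsAffine X] [IsAffine S] (g : Z ⟶ S)
    (f : X ⟶ S)
    (hfree : letI := (g.appTop).hom.toAlgebra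
      Module.Finite Γ(S, ⊤) Γ(Z, ⊤) ∧ Module.Free Γ(S, ⊤) Γ(Z, ⊤)) :
    ∃ W : Over S, IsAffine W.left ∧ Nonempty ((Flatn.morS g f).RepresentableBy W) := by
  obtain ⟨W₀, w₀, h⟩ := weil_alg g.appTop f.appTop hfree
  obtain ⟨uu, huu, hUP⟩ := h _ _ _ (isPushout_W g w₀)
  refine ⟨Wobj w₀, (inferInstance : IsAffine (Spec W₀)), ⟨?_⟩⟩
  exact
    { homEquiv := fun {T} => Equiv.ofBijective (tau g f w₀ uu huu T)
        ⟨tau_inj g f w₀ uu huu hUP T, tau_surj g f w₀ uu huu hUP T⟩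
      homEquiv_comp := fun s t => tau_comp g f w₀ uu huu s t }

end Groth.Agent.Lib.Helper5.Weil
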